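import Mathlib
import Groth.Prelude.Def_W4c3tautjacobianRel

/-!
# The operator `F` on the formal relation ring
-/

set_option autoImplicit false

open MvPolynomial W4c3tautjacobian

noncomputable section

namespace Groth.Agent.TautJacLib

variable {g : ℕ}

/-- Bidegree with integer values. -/
def wz (g : ℕ) (v : Var g) : ℤ × ℤ := ((wt g v).1, (wt g v).2)

/-- Bihomogeneous pieces. -/
abbrev H (g : ℕ) (i j : ℤ) : Submodule ℚ (RelRing g) := weightedHomogeneousSubmodule ℚ (wz g) (i, j)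

theorem weight_wz (d : Var g →₀ ℕ) :
    Finsupp.weight (wz g) d = (((Finsupp.weight (wt g) d).1 : ℤ), ((Finsupp.weight (wt g) d).2 : ℤ)) := by
  induction d using Finsupp.induction_linear with
  | zero => simp; rfl
  | add a b ha hb => rw [map_add, map_add, ha, hb]; simp
  | single v n => simp [Finsupp.weight_apply, wz]

theorem H_of_wt {P : RelRing g} {i j : ℕ} (h : IsWeightedHomogeneous (wt g) P ((i, j) : ℕ × ℕ)) :
    P ∈ H g i j := by
  intro d hd
  rw [weight_wz, h hd]

theorem eq_zero_of_neg {P : RelRing g} {i j : ℤ} (h : i < 0 ∨ j < 0) (hP : P ∈ H g i j) : P = 0 := by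
  ext d
  rw [coeff_zero]
  by_contra hd
  have := hP hd
  rw [weight_wz, Prod.ext_iff] at this
  obtain ⟨h1, h2⟩ := this
  simp only at h1 h2
  omega

theorem H_congr {P : RelRing g} {i j i' j' : ℤ} (hP : P ∈ H g i j) (hi : i = i') (hj : j = j') : P ∈ H g i' j' := by
  subst hi hj; exact hP

theorem mul_H {P Q : RelRing g} {i j i' j' : ℤ} (hP : P ∈ H g i j) (hQ : Q ∈ H g i' j') :
    P * Q ∈ H g (i + i') (j + j') := IsWeightedHomogeneous.mul hP hQ

theorem natCast_H (n : ℕ) : (n : RelRing g) ∈ H g 0 0 := by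
  rw [← map_natCast (C : ℚ →+* RelRing g)]
  exact isWeightedHomogeneous_C _ _

theorem xv_H (i j : ℤ) : xv g i j ∈ H g i j := by
  unfold xv
  split_ifs with h1 h2
  · obtain ⟨rfl, rfl⟩ := h1
    exact natCast_H g
  · refine H_congr (i := (i.toNat : ℤ)) (j := (j.toNat : ℤ)) ?_ (by omega) (by omega)
    exact isWeightedHomogeneous_X ℚ (wz g) _
  · exact zero_mem _

theorem dv_H {P : RelRing g} {i j : ℤ} (hP : P ∈ H g i j) (p : ℕ × ℕ) : dv g p P ∈ H g (i - p.1) (j - p.2) := by
  unfold dv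
  split_ifs with h
  · rw [P.as_sum, map_sum]
    refine Submodule.sum_mem _ fun d hd => ?_
    rw [pderiv_monomial]
    rcases eq_or_ne (d (some ⟨p, h⟩)) 0 with h0 | h0
    · simp [h0]
    · refine isWeightedHomogeneous_monomial _ _ _ ?_
      have hw := hP (mem_support_iff.1 hd)
      rw [show d = (d - Finsupp.single (some ⟨p, h⟩) 1) + Finsupp.single (some ⟨p, h⟩) 1 from
        (tsub_add_cancel_of_le (Finsupp.single_le_iff.2 (Nat.one_le_iff_ne_zero.2 h0))).symm, map_add] at hw
      rw [← eq_sub_iff_add_eq] at hw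
      rw [hw]
      simp [Finsupp.weight_apply, wz, wt, Prod.ext_iff]
  · exact zero_mem _

theorem dv_add (p : ℕ × ℕ) (P Q : RelRing g) : dv g p (P + Q) = dv g p P + dv g p Q := by
  unfold dv; split_ifs <;> simp

theorem dv_smul (p : ℕ × ℕ) (c : ℚ) (P : RelRing g) : dv g p (c • P) = c • dv g p P := by
  unfold dv; split_ifs <;> simp

theorem dv_zero (p : ℕ × ℕ) : dv g p (0 : RelRing g) = 0 := by unfold dv; split_ifs <;> simp

theorem dv_mul (p : ℕ × ℕ) (P Q : RelRing g) : dv g p (P * Q) = dv g p P * Q + P * dv g p Q := by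
  unfold dv; split_ifs
  · exact pderiv_mul
  · simp

/-- The coefficient of the second order part. -/
def A (g : ℕ) (p q : ℕ × ℕ) : RelRing g :=
  MvPolynomial.X none * xv g ((p.1 : ℤ) - 1) ((p.2 : ℤ) - 1) * xv g ((q.1 : ℤ) - 1) ((q.2 : ℤ) - 1)
    - (mergeCoeff p.1 q.1 : RelRing g) * xv g ((p.1 : ℤ) + q.1 - 2) ((p.2 : ℤ) + q.2)

/-- `F` as a linear map. -/
def FL (g : ℕ) : RelRing g →ₗ[ℚ] RelRing g where
  toFun := F g
  map_add' P Q := by
    simp only [F, dv_add, mul_add, Finset.sum_add_distrib, smul_add]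
    abel
  map_smul' c P := by
    simp only [F, dv_smul, mul_smul_comm, ← Finset.smul_sum, smul_add, RingHom.id_apply, smul_comm c (1 / 2 : ℚ)]

theorem FL_apply (P : RelRing g) : FL g P = F g P := rfl

theorem A_H (p q : ℕ × ℕ) : A g p q ∈ H g ((p.1 : ℤ) + q.1 - 2) ((p.2 : ℤ) + q.2) := by
  refine sub_mem ?_ ?_
  · refine H_congr (mul_H (mul_H (i := 0) (j := 2) ?_ (xv_H _ _)) (xv_H _ _)) (by ring) (by ring)
    exact isWeightedHomogeneous_X ℚ (wz g) none
  · exact H_congr (mul_H (natCast_H _) (xv_H _ _)) (by ring) (by ring)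

theorem F_H {P : RelRing g} {i j : ℤ} (hP : P ∈ H g i j) : F g P ∈ H g (i - 2) j := by
  refine add_mem (Submodule.smul_mem _ _ (Submodule.sum_mem _ fun p _ => Submodule.sum_mem _ fun q _ => ?_))
    (Submodule.sum_mem _ fun p _ => ?_)
  · exact H_congr (mul_H (A_H p q) (dv_H (dv_H hP q) p)) (by ring) (by ring)
  · exact H_congr (mul_H (xv_H _ _) (dv_H hP p)) (by ring) (by ring)

theorem iterate_H {P : RelRing g} {i j : ℤ} (hP : P ∈ H g i j) (n : ℕ) : (F g)^[n] P ∈ H g (i - 2 * n) j := by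
  induction n with
  | zero => exact H_congr hP (by simp) rfl
  | succ n ih =>
    rw [Function.iterate_succ_apply']
    exact H_congr (F_H ih) (by push_cast; ring) rfl

theorem valid20 (hg : 1 ≤ g) : Valid g (2, 0) := ⟨by norm_num, by show 2 ≤ 2 * g; omega, by decide, by decide⟩

theorem mem_idx {p : ℕ × ℕ} (h : Valid g p) : p ∈ idx g := by
  obtain ⟨h1, h2, -, -⟩ := h
  simp only [idx, Finset.mem_product, Finset.mem_range]
  omega

theorem xv_valid {p : ℕ × ℕ} (h : Valid g p) : xv g (p.1 : ℤ) (p.2 : ℤ) = MvPolynomial.X (some ⟨p, h⟩) := by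
  have hne : ¬ ((p.1 : ℤ) = 0 ∧ (p.2 : ℤ) = 0) := fun e => h.2.2.2 (Prod.ext (by simp; omega) (by simp; omega))
  rw [xv, if_neg hne, dif_pos ⟨by omega, by omega, by simpa using h⟩]
  simp

instance : Fintype {p : ℕ × ℕ // Valid g p} :=
  Fintype.subtype ((idx g).filter (Valid g)) fun _ => ⟨fun h => (Finset.mem_filter.1 h).2,
    fun h => Finset.mem_filter.2 ⟨mem_idx h, h⟩⟩

theorem euler {P : RelRing g} {i j : ℤ} (hP : P ∈ H g i j) :
    ∑ p ∈ idx g, (p.1 : RelRing g) * (xv g (p.1 : ℤ) (p.2 : ℤ) * dv g p P) = (i : ℚ) • P := by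
  classical
  conv_rhs => rw [P.as_sum, Finset.smul_sum]
  rw [show (∑ p ∈ idx g, (p.1 : RelRing g) * (xv g (p.1 : ℤ) (p.2 : ℤ) * dv g p P)) =
      ∑ d ∈ P.support, ∑ p ∈ idx g, (p.1 : RelRing g) * (xv g (p.1 : ℤ) (p.2 : ℤ) * dv g p (monomial d (P.coeff d))) by
    rw [Finset.sum_comm]
    refine Finset.sum_congr rfl fun p _ => ?_
    unfold dv
    split_ifs
    · conv_lhs => rw [P.as_sum]
      rw [map_sum, Finset.mul_sum, Finset.mul_sum]
    · simp]
  refine Finset.sum_congr rfl fun d hd => ?_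
  have hw := hP (mem_support_iff.1 hd)
  rw [weight_wz, Prod.ext_iff] at hw
  simp only at hw
  have key : ∀ p, (p.1 : RelRing g) * (xv g (p.1 : ℤ) (p.2 : ℤ) * dv g p (monomial d (P.coeff d))) =
      (if h : Valid g p then ((p.1 * d (some ⟨p, h⟩) : ℕ) : ℚ) else 0) • monomial d (P.coeff d) := by
    intro p
    unfold dv
    split_ifs with h
    · rw [xv_valid h, pderiv_monomial, X, monomial_mul, ← map_natCast (C : ℚ →+* RelRing g), C_mul_monomial, smul_monomial]
      rcases eq_or_ne (d (some ⟨p, h⟩)) 0 with h0 | h0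
      · simp [h0]
      · rw [add_tsub_cancel_of_le (Finsupp.single_le_iff.2 (Nat.one_le_iff_ne_zero.2 h0))]
        congr 1
        push_cast
        simp; ring
    · simp
  rw [Finset.sum_congr rfl (fun p _ => key p), ← Finset.sum_smul]
  congr 1
  have hfst : ((Finsupp.weight (wt g) d).1 : ℚ) = (i : ℚ) := by
    rw [show (i : ℚ) = (((Finsupp.weight (wt g) d).1 : ℤ) : ℚ) by rw [hw.1]]
    simp
  rw [← hfst, Finsupp.weight_apply, Finsupp.sum_fintype _ _ (fun v => by simp), Prod.fst_sum, Nat.cast_sum,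
    Fintype.sum_option]
  simp only [wt, Prod.smul_fst, smul_eq_mul, mul_zero, Nat.cast_zero, zero_add]
  rw [← Finset.sum_subset (s₁ := Finset.univ.map (Function.Embedding.subtype (Valid g)))]
  · rw [Finset.sum_map]
    refine Finset.sum_congr rfl fun p _ => ?_
    rw [Function.Embedding.coe_subtype, dif_pos p.2, mul_comm]
  · intro p hp
    obtain ⟨q, -, rfl⟩ := Finset.mem_map.1 hp
    exact mem_idx q.2
  · intro p _ hp
    rw [dif_neg]
    exact fun h => hp (Finset.mem_map.2 ⟨⟨p, h⟩, Finset.mem_univ _, rfl⟩)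

theorem A_symm (p q : ℕ × ℕ) (hc : mergeCoeff p.1 q.1 = mergeCoeff q.1 p.1) : A g p q = A g q p := by
  rw [A, A, hc, add_comm (p.1 : ℤ), add_comm (p.2 : ℤ)]
  ring

theorem A_right (p : ℕ × ℕ) : A g p (2, 0) = -((p.1 : RelRing g) * xv g (p.1 : ℤ) (p.2 : ℤ)) := by
  rw [A, show xv g (((2, 0) : ℕ × ℕ).1 - 1 : ℤ) (((2, 0) : ℕ × ℕ).2 - 1 : ℤ) = 0 from ?_]
  · have : mergeCoeff p.1 2 = p.1 := by
      unfold mergeCoeff
      rcases eq_or_ne p.1 0 with h | h
      · simp [h]
      · rw [if_neg (by omega), show p.1 + 2 - 2 = p.1 by omega, ← Nat.choose_symm (by omega),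
          show p.1 - (p.1 - 1) = 1 by omega, Nat.choose_one_right]
    rw [this]
    simp
  · simp [xv]

theorem A_left (p : ℕ × ℕ) : A g (2, 0) p = -((p.1 : RelRing g) * xv g (p.1 : ℤ) (p.2 : ℤ)) := by
  rw [A_symm _ _ ?_, A_right]
  simp only [mergeCoeff]
  rcases eq_or_ne p.1 0 with h | h
  · simp [h]
  · rw [if_neg (by omega), if_neg (by omega), show p.1 + 2 - 2 = p.1 by omega, show 2 + p.1 - 2 = p.1 by omega,
      ← Nat.choose_symm (show p.1 - 1 ≤ p.1 by omega), show p.1 - (p.1 - 1) = 1 by omega]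

theorem comm_F (hg : 1 ≤ g) {P : RelRing g} {i j : ℤ} (hP : P ∈ H g i j) :
    F g (E g P) = E g (F g P) + ((g : ℚ) - i) • P := by
  classical
  set e := xv g 2 0
  have hxe : e = MvPolynomial.X (some ⟨(2, 0), valid20 hg⟩) := by simpa using xv_valid (valid20 hg)
  have he : ∀ p, dv g p e = if p = (2, 0) then 1 else 0 := by
    intro p
    unfold dv
    rw [hxe]
    rcases eq_or_ne p (2, 0) with rfl | h
    · rw [dif_pos (valid20 hg), if_pos rfl]; simp
    · rw [if_neg h]
      split_ifs with hv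
      · exact pderiv_X_of_ne fun e => h (congrArg Subtype.val (Option.some.inj e)).symm
      · rfl
  have hd1 : ∀ q, dv g q (e * P) = (if q = (2, 0) then P else 0) + e * dv g q P := fun q => by
    rw [dv_mul, he]; split_ifs <;> simp
  have hd2 : ∀ p q, dv g p (dv g q (e * P)) = (if q = (2, 0) then dv g p P else 0) +
      (if p = (2, 0) then dv g q P else 0) + e * dv g p (dv g q P) := fun p q => by
    rw [hd1, dv_add, dv_mul, he]
    split_ifs <;> simp [dv_zero, add_assoc]
  have h20 : ((2, 0) : ℕ × ℕ) ∈ idx g := mem_idx (valid20 hg)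
  show (1 / 2 : ℚ) • (∑ p ∈ idx g, ∑ q ∈ idx g, A g p q * dv g p (dv g q (e * P))) +
      ∑ p ∈ idx g, xv g ((p.1 : ℤ) - 2) (p.2 : ℤ) * dv g p (e * P) =
    e * ((1 / 2 : ℚ) • (∑ p ∈ idx g, ∑ q ∈ idx g, A g p q * dv g p (dv g q P)) +
      ∑ p ∈ idx g, xv g ((p.1 : ℤ) - 2) (p.2 : ℤ) * dv g p P) + ((g : ℚ) - i) • P
  simp only [hd2]
  simp only [hd1, mul_add, Finset.sum_add_distrib, smul_add, mul_ite, mul_zero,
    Finset.sum_ite_eq', h20, if_true]
  rw [Finset.sum_comm (f := fun p q => if p = (2, 0) then A g p q * dv g q P else 0)]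
  simp only [Finset.sum_ite_eq', h20, if_true, A_left, A_right, neg_mul, mul_assoc, Finset.sum_neg_distrib,
    euler hP, mul_smul_comm, Finset.mul_sum, mul_left_comm e]
  rw [show ((((2, 0) : ℕ × ℕ).1 : ℤ) - 2) = 0 by norm_num, show (((2, 0) : ℕ × ℕ).2 : ℤ) = 0 by norm_num,
    show xv g 0 0 = (g : RelRing g) by simp [xv]]
  rw [show (g : RelRing g) * P = (g : ℚ) • P by rw [Algebra.smul_def, map_natCast]]
  module

theorem iterate_E (hg : 1 ≤ g) {P : RelRing g} {i j : ℤ} (hP : P ∈ H g i j) (m : ℕ) :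
    (F g)^[m + 1] (E g P) = E g ((F g)^[m + 1] P) + (((m : ℚ) + 1) * ((g : ℚ) - i + m)) • (F g)^[m] P := by
  induction m with
  | zero => simpa using comm_F hg hP
  | succ m ih =>
    rw [Function.iterate_succ_apply' (F g) (m + 1) (E g P), ih, ← FL_apply, map_add, map_smul, FL_apply, FL_apply,
      comm_F hg (iterate_H hP (m + 1)), ← Function.iterate_succ_apply' (F g) (m + 1) P,
      ← Function.iterate_succ_apply' (F g) m P]
    rw [add_assoc, ← add_smul]
    congr 2
    push_cast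
    ring

theorem iterate_zero (n : ℕ) : (F g)^[n] (0 : RelRing g) = 0 := by
  induction n with
  | zero => rfl
  | succ n ih => rw [Function.iterate_succ_apply, ← FL_apply, map_zero, ih]

theorem E_pow_H (hg : 1 ≤ g) {P : RelRing g} {i j : ℤ} (hP : P ∈ H g i j) (a : ℕ) :
    (E g)^[a] P ∈ H g (i + 2 * a) j := by
  induction a with
  | zero => exact H_congr hP (by simp) rfl
  | succ a ih =>
    rw [Function.iterate_succ_apply']
    exact H_congr (mul_H (xv_H 2 0) ih) (by push_cast; ring) (by ring)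

theorem vanish (hg : 1 ≤ g) {P : RelRing g} {i j : ℤ} (hP : P ∈ H g i j) (hi : i ≤ 2 * g) :
    ∀ a k : ℕ, 2 * (k : ℤ) = i + 2 * a → g < k → (F g)^[k] ((E g)^[a] P) = 0 := by
  intro a
  induction a with
  | zero => intro k h1 h2; omega
  | succ a ih =>
    intro k h1 h2
    obtain ⟨m, rfl⟩ : ∃ m, k = m + 1 := ⟨k - 1, by omega⟩
    have hw := E_pow_H hg hP a
    rw [Function.iterate_succ_apply' (E g) a P, iterate_E hg hw]
    rw [eq_zero_of_neg (Or.inl (by push_cast at h1 ⊢; omega)) (iterate_H hw (m + 1)),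
      show E g (0 : RelRing g) = 0 from mul_zero _, zero_add]
    rcases eq_or_lt_of_le (Nat.lt_succ_iff.1 h2) with h | h
    · subst h
      rw [show ((g : ℚ) - ((i + 2 * (a : ℤ) : ℤ) : ℚ) + (g : ℕ)) = 0 from ?_, mul_zero, zero_smul]
      rw [show i + 2 * (a : ℤ) = 2 * (g : ℤ) by push_cast at h1; omega]
      push_cast; ring
    · rw [ih m (by push_cast at h1; omega) h, smul_zero]

theorem deg_le_of_ne {v : Var g} (hv : ∀ h, v ≠ some ⟨(2, 0), h⟩) : (wt g v).1 ≤ 3 * (wt g v).2 := by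
  rcases v with _ | ⟨⟨a, b⟩, hv'⟩
  · simp [wt]
  · obtain ⟨h1, -, h3, h4⟩ := id hv'
    show a ≤ 3 * b
    simp only at h1 h3
    rcases Nat.eq_zero_or_pos b with rfl | hb
    · exfalso
      have ha : a ≠ 0 := fun e => h4 (by simp [e])
      have : a = 2 := by rcases h3 with ⟨r, hr⟩; omega
      subst this
      exact hv _ rfl
    · omega

theorem F_iterate_monomial_eq_zero (hg : 1 ≤ g) (d : Var g →₀ ℕ) (k : ℕ)
    (h2 : 3 * (Finsupp.weight (wt g) d).2 ≤ 2 * g) (hk : (Finsupp.weight (wt g) d).1 = 2 * k) (hgk : g < k) :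
    (F g)^[k] (monomial d (1 : ℚ)) = 0 := by
  classical
  set e : Var g := some ⟨(2, 0), valid20 hg⟩
  set d' := d.erase e
  have hd : d = d' + Finsupp.single e (d e) := (Finsupp.erase_add_single e d).symm
  have hw : Finsupp.weight (wt g) d' + d e • ((2, 0) : ℕ × ℕ) = Finsupp.weight (wt g) d := by
    conv_rhs => rw [hd, map_add]
    rw [Finsupp.weight_single]
    rfl
  have h3 : (Finsupp.weight (wt g) d').1 ≤ 3 * (Finsupp.weight (wt g) d').2 := by
    rw [Finsupp.weight_apply, Finsupp.sum, Prod.fst_sum, Prod.snd_sum, Finset.mul_sum]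
    refine Finset.sum_le_sum fun v hv => ?_
    have := deg_le_of_ne (v := v) fun h e' => by
      rw [Finsupp.support_erase, Finset.mem_erase] at hv; exact hv.1 e'
    simp only [Prod.smul_fst, Prod.smul_snd, smul_eq_mul]
    nlinarith
  rw [Prod.ext_iff] at hw
  simp only [Prod.fst_add, Prod.snd_add, Prod.smul_fst, Prod.smul_snd, smul_eq_mul, mul_zero, add_zero] at hw
  have hE : monomial d (1 : ℚ) = (E g)^[d e] (monomial d' 1) := by
    have hiter : ∀ n, (E g)^[n] (monomial d' (1 : ℚ)) = monomial (d' + Finsupp.single e n) 1 := by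
      intro n
      induction n with
      | zero => simp
      | succ n ih =>
        rw [Function.iterate_succ_apply', ih, show E g (monomial (d' + Finsupp.single e n) (1 : ℚ)) =
          xv g 2 0 * monomial (d' + Finsupp.single e n) 1 from rfl,
          show xv g 2 0 = MvPolynomial.X e by simpa using xv_valid (valid20 hg), X, monomial_mul, mul_one,
          Finsupp.single_add, add_comm, add_assoc]
    rw [hiter, ← hd]
  rw [hE]
  refine vanish hg (i := ((Finsupp.weight (wt g) d').1 : ℤ)) (j := ((Finsupp.weight (wt g) d').2 : ℤ))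
    (isWeightedHomogeneous_monomial _ _ _ (weight_wz d')) (by omega) _ _ (by omega) hgk

theorem relIdeal_component (hg : 1 ≤ g) {n : ℕ} (hn : 3 * n ≤ 2 * g) {Q : RelRing g} (hQ : Q ∈ relIdeal g) :
    weightedHomogeneousComponent (wz g) ((0 : ℤ), (n : ℤ)) Q = 0 := by
  suffices h : ∀ a : RelRing g, weightedHomogeneousComponent (wz g) ((0 : ℤ), (n : ℤ)) (a * Q) = 0 by
    simpa using h 1
  induction hQ using Submodule.span_induction with
  | mem G hG =>
    obtain ⟨d, k, hd, rfl⟩ := hG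
    intro a
    induction a using MvPolynomial.induction_on' with
    | add p q hp hq => rw [add_mul, map_add, hp, hq, add_zero]
    | monomial e r =>
      have h1 := iterate_H (i := ((Finsupp.weight (wt g) d).1 : ℤ)) (j := ((Finsupp.weight (wt g) d).2 : ℤ))
        (isWeightedHomogeneous_monomial _ _ (1 : ℚ) (weight_wz d)) k
      by_cases h0 : (F g)^[k] (monomial d (1 : ℚ)) = 0
      · rw [h0, mul_zero, map_zero]
      have hne : ¬ (((Finsupp.weight (wt g) d).1 : ℤ) - 2 * k < 0) := fun h => h0 (eq_zero_of_neg (Or.inl h) h1)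
      refine IsWeightedHomogeneous.weightedHomogeneousComponent_ne _
        (mul_H (i := ((Finsupp.weight (wt g) e).1 : ℤ)) (j := ((Finsupp.weight (wt g) e).2 : ℤ))
          (isWeightedHomogeneous_monomial _ _ r (weight_wz e)) h1) fun heq => h0 ?_
      rw [Prod.ext_iff] at heq
      simp only at heq
      exact F_iterate_monomial_eq_zero hg d k (by omega) (by omega) (by omega)
  | zero => intro a; rw [mul_zero, map_zero]
  | add x y _ _ hx hy => intro a; rw [mul_add, map_add, hx, hy, add_zero]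
  | smul r x _ hx => intro a; rw [smul_eq_mul, ← mul_assoc]; exact hx _

theorem weight_inj {d : Var g →₀ ℕ} {i j : ℕ} (h : Finsupp.weight (wz g) d = ((i : ℤ), (j : ℤ))) :
    Finsupp.weight (wt g) d = (i, j) := by
  rw [weight_wz, Prod.ext_iff] at h
  exact Prod.ext (by simpa using h.1) (by simpa using h.2)

end Groth.Agent.TautJacLib
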