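import Mathlib
import Groth.Agent.TautJacLib.Basic

/-!
# Positivity of the operator `F` modulo `y`
-/

set_option autoImplicit false

open MvPolynomial W4c3tautjacobian

noncomputable section

namespace Groth.Agent.TautJacLib

variable {g : ℕ}

/-- Total degree of an exponent. -/
def deg (d : Var g →₀ ℕ) : ℕ := Finsupp.weight (fun _ => (1 : ℕ)) d

theorem deg_add (a b : Var g →₀ ℕ) : deg (a + b) = deg a + deg b := map_add _ _ _

theorem deg_single (v : Var g) (n : ℕ) : deg (Finsupp.single v n) = n := by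
  rw [deg, Finsupp.weight_single]; simp

/-- The sign of an exponent. -/
def sg (d : Var g →₀ ℕ) : ℚ := (-1) ^ deg d

theorem sg_mul_self (d : Var g →₀ ℕ) : sg d * sg d = 1 := by
  rw [sg, ← mul_pow]; simp

/-- Exponents with all variables of positive second degree. -/
def Big (d : Var g →₀ ℕ) : Prop := ∀ v ∈ d.support, (wt g v).2 ≠ 0

/-- Signed nonnegativity modulo `y`. -/
def Pos (P : RelRing g) : Prop :=
  ∀ d, d none = 0 → 0 ≤ sg d * P.coeff d ∧ (P.coeff d ≠ 0 → Big d)

theorem Pos.zero : Pos (0 : RelRing g) := fun d _ => by simp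

theorem Pos.add {P Q : RelRing g} (hP : Pos P) (hQ : Pos Q) : Pos (P + Q) := by
  intro d hd
  obtain ⟨h1, h2⟩ := hP d hd
  obtain ⟨h3, h4⟩ := hQ d hd
  refine ⟨by rw [coeff_add, mul_add]; positivity, fun h => ?_⟩
  by_cases hp : P.coeff d = 0
  · exact h4 (by simpa [hp] using h)
  · exact h2 hp

theorem Pos.smul {P : RelRing g} {c : ℚ} (hc : 0 ≤ c) (hP : Pos P) : Pos (c • P) := by
  intro d hd
  obtain ⟨h1, h2⟩ := hP d hd
  refine ⟨by rw [coeff_smul, smul_eq_mul, mul_left_comm]; positivity, fun h => h2 fun h0 => h ?_⟩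
  rw [coeff_smul, h0, smul_zero]

theorem Pos.sum {ι : Type} (s : Finset ι) {f : ι → RelRing g} (h : ∀ i ∈ s, Pos (f i)) : Pos (∑ i ∈ s, f i) :=
  Finset.sum_induction _ Pos (fun _ _ => Pos.add) Pos.zero h

theorem Pos.y_mul (Q : RelRing g) : Pos (MvPolynomial.X none * Q) := by
  intro d hd
  have : (MvPolynomial.X none * Q).coeff d = 0 := by
    rw [coeff_X_mul', if_neg (by rw [Finsupp.mem_support_iff]; exact fun h => h hd)]
  simp [this]

/-- The signed monomial. -/
def unit (d : Var g →₀ ℕ) : RelRing g := sg d • monomial d 1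

theorem Pos.unit {d : Var g →₀ ℕ} (hd : Big d) : Pos (unit d) := by
  intro e _
  rw [TautJacLib.unit, coeff_smul, coeff_monomial, smul_eq_mul]
  split_ifs with h
  · subst h; exact ⟨by rw [mul_one, sg_mul_self]; norm_num, fun _ => hd⟩
  · simp

theorem coeff_unit (d : Var g →₀ ℕ) : sg d * (unit d).coeff d = 1 := by
  rw [unit, coeff_smul, coeff_monomial, if_pos rfl, smul_eq_mul, mul_one, sg_mul_self]

/-- The functional. -/
def φ (d : Var g →₀ ℕ) (P : RelRing g) : ℚ := sg d * P.coeff d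

theorem φ_add (d : Var g →₀ ℕ) (P Q : RelRing g) : φ d (P + Q) = φ d P + φ d Q := by
  rw [φ, φ, φ, coeff_add, mul_add]

theorem φ_smul (d : Var g →₀ ℕ) (c : ℚ) (P : RelRing g) : φ d (c • P) = c * φ d P := by
  rw [φ, φ, coeff_smul, smul_eq_mul]; ring

theorem φ_sum {ι : Type} (s : Finset ι) (f : ι → RelRing g) (d : Var g →₀ ℕ) :
    φ d (∑ i ∈ s, f i) = ∑ i ∈ s, φ d (f i) := by
  rw [φ, coeff_sum, Finset.mul_sum]; rfl

theorem F_y_mul (Q : RelRing g) : F g (MvPolynomial.X none * Q) = MvPolynomial.X none * F g Q := by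
  have hy : ∀ p, dv g p (MvPolynomial.X none * Q) = MvPolynomial.X none * dv g p Q := fun p => by
    rw [dv_mul]
    have : dv g p (MvPolynomial.X none : RelRing g) = 0 := by
      unfold dv
      split_ifs
      · exact pderiv_X_of_ne (by simp)
      · rfl
    rw [this, zero_mul, zero_add]
  have hy2 : ∀ p q, dv g p (dv g q (MvPolynomial.X none * Q)) = MvPolynomial.X none * dv g p (dv g q Q) :=
    fun p q => by
      rw [hy q, dv_mul]
      have : dv g p (MvPolynomial.X none : RelRing g) = 0 := by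
        unfold dv
        split_ifs
        · exact pderiv_X_of_ne (by simp)
        · rfl
      rw [this, zero_mul, zero_add]
  simp only [F, hy2]
  simp only [hy, mul_left_comm _ (MvPolynomial.X none : RelRing g), ← Finset.mul_sum, ← mul_smul_comm, mul_add]

theorem dv_unit {d : Var g →₀ ℕ} {p : ℕ × ℕ} (h : Valid g p) :
    dv g p (unit d) = (d (some ⟨p, h⟩) : ℚ) • (sg d • monomial (d - Finsupp.single (some ⟨p, h⟩) 1) 1) := by
  rw [unit, dv_smul, dv, dif_pos h, pderiv_monomial, one_mul, smul_comm]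
  congr 1
  rw [smul_monomial, smul_eq_mul, mul_one]

/-- First order term of `F`. -/
def T1 (g : ℕ) (p : ℕ × ℕ) (P : RelRing g) : RelRing g := xv g ((p.1 : ℤ) - 2) (p.2 : ℤ) * dv g p P

/-- Second order term of `F`. -/
def T2 (g : ℕ) (p q : ℕ × ℕ) (P : RelRing g) : RelRing g := A g p q * dv g p (dv g q P)

theorem F_eq (P : RelRing g) :
    F g P = (1 / 2 : ℚ) • (∑ p ∈ idx g, ∑ q ∈ idx g, T2 g p q P) + ∑ p ∈ idx g, T1 g p P := rfl

theorem xv_cases (i j : ℤ) (hj : j ≠ 0) :
    xv g i j = 0 ∨ ∃ v : Var g, xv g i j = MvPolynomial.X v ∧ v ≠ none ∧ (wt g v).2 = j.toNat ∧ j.toNat ≠ 0 := by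
  unfold xv
  rw [if_neg (fun h => hj h.2)]
  split_ifs with h
  · exact Or.inr ⟨_, rfl, by simp, rfl, by omega⟩
  · exact Or.inl rfl

theorem Big.sub {d : Var g →₀ ℕ} (hd : Big d) (e : Var g →₀ ℕ) : Big (d - e) := fun v hv =>
  hd v (Finsupp.mem_support_iff.2 fun h => by simp [Finsupp.tsub_apply, h] at hv)

theorem Big.add_single {d : Var g →₀ ℕ} (hd : Big d) {v : Var g} (hv : (wt g v).2 ≠ 0) :
    Big (d + Finsupp.single v 1) := fun u hu => by
  rcases Finset.mem_union.1 (Finsupp.support_add hu) with h | h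
  · exact hd u h
  · rw [Finsupp.support_single_ne_zero _ one_ne_zero, Finset.mem_singleton] at h
    rw [h]; exact hv

theorem X_mul_mono (v : Var g) (d : Var g →₀ ℕ) :
    MvPolynomial.X v * monomial d (1 : ℚ) = monomial (d + Finsupp.single v 1) 1 := by
  rw [X, monomial_mul, mul_one, add_comm]

theorem var_eq {p p' : ℕ × ℕ} (h : Valid g p) (h' : Valid g p') (e : p = p') :
    (some ⟨p, h⟩ : Var g) = some ⟨p', h'⟩ := by
  subst e; rfl

theorem sub_add_single {d : Var g →₀ ℕ} {v : Var g} (h : d v ≠ 0) :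
    d - Finsupp.single v 1 + Finsupp.single v 1 = d :=
  tsub_add_cancel_of_le (Finsupp.single_le_iff.2 (Nat.one_le_iff_ne_zero.2 h))

theorem pos_T1 {d : Var g →₀ ℕ} (hd : Big d) (p : ℕ × ℕ) : Pos (T1 g p (TautJacLib.unit d)) := by
  unfold TautJacLib.T1
  by_cases h : Valid g p
  swap
  · rw [dv, dif_neg h, mul_zero]; exact Pos.zero
  rw [dv_unit h]
  rcases eq_or_ne (d (some ⟨p, h⟩ : Var g)) 0 with h0 | h0
  · rw [h0, Nat.cast_zero, zero_smul, mul_zero]; exact Pos.zero
  have hb : (p.2 : ℤ) ≠ 0 := Int.natCast_ne_zero.2 (hd _ (Finsupp.mem_support_iff.2 h0))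
  rcases xv_cases (g := g) ((p.1 : ℤ) - 2) (p.2 : ℤ) hb with e | ⟨w, e, -, hw, hw0⟩
  · rw [e, zero_mul]; exact Pos.zero
  rw [e, mul_smul_comm, mul_smul_comm, X_mul_mono]
  refine Pos.smul (Nat.cast_nonneg _) ?_
  have hs : sg d = sg (d - Finsupp.single (some ⟨p, h⟩ : Var g) 1 + Finsupp.single w 1) := by
    conv_lhs => rw [← sub_add_single h0]
    rw [sg, sg, deg_add, deg_add, deg_single, deg_single]
  rw [hs]
  exact Pos.unit ((hd.sub _).add_single (hw ▸ hw0))

theorem T2_unit {d : Var g →₀ ℕ} {p q : ℕ × ℕ} (hp : Valid g p) (hq : Valid g q) :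
    T2 g p q (unit d) = MvPolynomial.X none * (xv g ((p.1 : ℤ) - 1) ((p.2 : ℤ) - 1) * xv g ((q.1 : ℤ) - 1) ((q.2 : ℤ) - 1) *
        dv g p (dv g q (unit d))) +
      ((mergeCoeff p.1 q.1 * d (some ⟨q, hq⟩ : Var g) * (d - Finsupp.single (some ⟨q, hq⟩ : Var g) 1 : Var g →₀ ℕ) (some ⟨p, hp⟩ : Var g) : ℕ) : ℚ) •
        ((-sg d) • (xv g ((p.1 : ℤ) + q.1 - 2) ((p.2 : ℤ) + q.2) *
          monomial (d - Finsupp.single (some ⟨q, hq⟩ : Var g) 1 - Finsupp.single (some ⟨p, hp⟩ : Var g) 1) 1)) := by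
  have e : dv g p (dv g q (unit d)) =
      ((d (some ⟨q, hq⟩ : Var g) * (d - Finsupp.single (some ⟨q, hq⟩ : Var g) 1 : Var g →₀ ℕ) (some ⟨p, hp⟩ : Var g) : ℕ) : ℚ) •
        (sg d • monomial (d - Finsupp.single (some ⟨q, hq⟩ : Var g) 1 - Finsupp.single (some ⟨p, hp⟩ : Var g) 1) (1 : ℚ)) := by
    rw [dv_unit hq, dv_smul, dv_smul, dv, dif_pos hp, pderiv_monomial, one_mul]
    rw [smul_monomial, smul_monomial, smul_monomial, smul_monomial]
    congr 1
    simp; ring
  rw [T2, A, sub_mul, sub_eq_add_neg]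
  congr 1
  · ring
  · rw [e, mul_assoc, ← map_natCast (C : ℚ →+* RelRing g), C_mul', mul_smul_comm, mul_smul_comm]
    simp only [smul_smul, ← neg_smul]
    congr 1
    push_cast
    ring

theorem merge_sign {d : Var g →₀ ℕ} {u v w : Var g} (hu : d u ≠ 0) (hv : (d - Finsupp.single u 1 : Var g →₀ ℕ) v ≠ 0) :
    -sg d = sg (d - Finsupp.single u 1 - Finsupp.single v 1 + Finsupp.single w 1) := by
  conv_lhs => rw [← sub_add_single hu, ← sub_add_single hv]
  rw [sg, sg, deg_add, deg_add, deg_add, deg_single, deg_single, deg_single, pow_succ _ (deg _ + 1)]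
  ring

theorem pos_T2 {d : Var g →₀ ℕ} (hd : Big d) (p q : ℕ × ℕ) : Pos (T2 g p q (TautJacLib.unit d)) := by
  by_cases hq : Valid g q
  swap
  · rw [TautJacLib.T2, dv.eq_def g q, dif_neg hq, dv_zero, mul_zero]; exact Pos.zero
  by_cases hp : Valid g p
  swap
  · rw [TautJacLib.T2, dv.eq_def g p, dif_neg hp, mul_zero]; exact Pos.zero
  rw [T2_unit hp hq]
  refine Pos.add (Pos.y_mul _) ?_
  rcases eq_or_ne (d (some ⟨q, hq⟩ : Var g)) 0 with h0 | h0
  · simp [h0, Pos.zero]
  rcases eq_or_ne ((d - Finsupp.single (some ⟨q, hq⟩ : Var g) 1 : Var g →₀ ℕ) (some ⟨p, hp⟩ : Var g)) 0 with h1 | h1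
  · rw [h1, mul_zero, Nat.cast_zero, zero_smul]; exact Pos.zero
  have hb : ((p.2 : ℤ) + q.2) ≠ 0 := by
    have : (wt g (some ⟨q, hq⟩ : Var g)).2 ≠ 0 := hd _ (Finsupp.mem_support_iff.2 h0)
    have hq2 : q.2 ≠ 0 := this
    omega
  rcases xv_cases ((p.1 : ℤ) + q.1 - 2) ((p.2 : ℤ) + q.2) hb with e | ⟨w, e, -, hw, hw0⟩
  · rw [e, zero_mul, smul_zero, smul_zero]; exact Pos.zero
  rw [e, X_mul_mono]
  refine Pos.smul (Nat.cast_nonneg _) ?_
  rw [merge_sign (w := w) h0 h1]
  exact Pos.unit (((hd.sub _).sub _).add_single (hw ▸ hw0))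

theorem pos_F_unit {d : Var g →₀ ℕ} (hd : Big d) : Pos (F g (TautJacLib.unit d)) := by
  rw [F_eq]
  exact Pos.add (Pos.smul (by norm_num) (Pos.sum _ fun p _ => Pos.sum _ fun q _ => pos_T2 hd p q))
    (Pos.sum _ fun p _ => pos_T1 hd p)

theorem pos_F {P : RelRing g} (hP : Pos P) : Pos (W4c3tautjacobian.F g P) := by
  rw [P.as_sum, ← FL_apply, map_sum]
  refine Pos.sum _ fun d _ => ?_
  rw [FL_apply]
  rcases eq_or_ne (d none) 0 with h0 | h0
  · obtain ⟨h1, h2⟩ := hP d h0
    rw [show monomial d (P.coeff d) = (sg d * P.coeff d) • TautJacLib.unit d by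
      rw [TautJacLib.unit, smul_smul, mul_right_comm, sg_mul_self, one_mul, smul_monomial, smul_eq_mul, mul_one],
      ← FL_apply, map_smul, FL_apply]
    rcases eq_or_ne (P.coeff d) 0 with hc | hc
    · rw [hc, mul_zero, zero_smul]; exact Pos.zero
    · exact Pos.smul h1 (pos_F_unit (h2 hc))
  · rw [show monomial d (P.coeff d) = MvPolynomial.X none * monomial (d - Finsupp.single none 1) (P.coeff d) by
      rw [X, monomial_mul, one_mul, add_comm, sub_add_single h0], F_y_mul]
    exact Pos.y_mul _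

/-- Positive with a chosen nonzero coefficient. -/
def StrictAt (d : Var g →₀ ℕ) (P : RelRing g) : Prop := d none = 0 ∧ Pos P ∧ 0 < φ d P

theorem StrictAt.step {d t : Var g →₀ ℕ} {P : RelRing g} (h : StrictAt d P) (ht : t none = 0)
    (hF : 0 < φ t (F g (unit d))) : StrictAt t (F g P) := by
  obtain ⟨h0, hP, hpos⟩ := h
  refine ⟨ht, pos_F hP, ?_⟩
  have hrest : Pos (P - φ d P • unit d) := by
    intro e he
    obtain ⟨h1, h2⟩ := hP e he
    rw [coeff_sub, coeff_smul, unit, coeff_smul, coeff_monomial, smul_eq_mul, smul_eq_mul]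
    split_ifs with heq
    · subst heq
      rw [φ, mul_one, mul_right_comm, sg_mul_self, one_mul, sub_self]
      simp
    · simp only [mul_zero, sub_zero]; exact ⟨h1, h2⟩
  rw [← sub_add_cancel P (φ d P • unit d), ← FL_apply, map_add, map_smul, FL_apply, FL_apply, φ_add, φ_smul]
  exact add_pos_of_nonneg_of_pos (pos_F hrest t ht).1 (mul_pos hpos hF)

theorem StrictAt.big {d : Var g →₀ ℕ} {P : RelRing g} (h : StrictAt d P) : Big d := by
  refine (h.2.1 d h.1).2 fun e => ?_
  have := h.2.2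
  rw [φ, e, mul_zero] at this
  exact lt_irrefl _ this

theorem StrictAt.merge {d0 : Var g →₀ ℕ} {P : RelRing g} {p q : ℕ × ℕ} (hp : Valid g p) (hq : Valid g q)
    (hw : Valid g (p.1 + q.1 - 2, p.2 + q.2)) (h1 : 1 ≤ p.1) (h2 : 1 ≤ q.1)
    (h : StrictAt (d0 + Finsupp.single (some ⟨p, hp⟩ : Var g) 1 + Finsupp.single (some ⟨q, hq⟩ : Var g) 1) P) :
    StrictAt (d0 + Finsupp.single (some ⟨(p.1 + q.1 - 2, p.2 + q.2), hw⟩) 1) (F g P) := by
  set d := d0 + Finsupp.single (some ⟨p, hp⟩ : Var g) 1 + Finsupp.single (some ⟨q, hq⟩ : Var g) 1 with hd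
  set w : Var g := some ⟨(p.1 + q.1 - 2, p.2 + q.2), hw⟩ with hwdef
  have ht : (d0 + Finsupp.single w 1 : Var g →₀ ℕ) none = 0 := by
    have := h.1; simp [hd, w] at this ⊢; omega
  refine h.step ht ?_
  have hbig := h.big
  have key : 0 < φ (d0 + Finsupp.single w 1) (T2 g p q (unit d)) := by
    have hsub : d - Finsupp.single (some ⟨q, hq⟩ : Var g) 1 = d0 + Finsupp.single (some ⟨p, hp⟩ : Var g) 1 := by rw [hd, add_tsub_cancel_right]
    have hsub2 : d0 + Finsupp.single (some ⟨p, hp⟩ : Var g) 1 - Finsupp.single (some ⟨p, hp⟩ : Var g) 1 = d0 := add_tsub_cancel_right _ _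
    rw [T2_unit hp hq, φ_add, hsub, hsub2]
    have hy : φ (d0 + Finsupp.single w 1) (MvPolynomial.X none * (xv g ((p.1 : ℤ) - 1) ((p.2 : ℤ) - 1) *
        xv g ((q.1 : ℤ) - 1) ((q.2 : ℤ) - 1) * dv g p (dv g q (unit d)))) = 0 := by
      rw [φ, coeff_X_mul', if_neg (by rw [Finsupp.mem_support_iff]; exact fun h => h ht), mul_zero]
    have hxv : xv g ((p.1 : ℤ) + q.1 - 2) ((p.2 : ℤ) + q.2) = MvPolynomial.X w := by
      rw [hwdef, ← xv_valid hw]
      congr 1
      push_cast [Nat.cast_sub (show 2 ≤ p.1 + q.1 by omega)]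
      ring
    have hsg : -sg d = sg (d0 + Finsupp.single w 1) := by
      have := merge_sign (d := d) (u := some ⟨q, hq⟩) (v := some ⟨p, hp⟩) (w := w) (by simp [hd])
        (by rw [hsub]; simp)
      rwa [hsub, hsub2] at this
    rw [hy, zero_add, φ_smul, hxv, X_mul_mono, hsg, φ_smul, φ, coeff_monomial, if_pos rfl, mul_one, sg_mul_self, mul_one]
    have hm : 0 < mergeCoeff p.1 q.1 := by
      rw [mergeCoeff, if_neg (by omega)]; exact Nat.choose_pos (by omega)
    have h3 : 0 < d (some ⟨q, hq⟩ : Var g) := by simp [hd]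
    have h4 : 0 < (d0 + Finsupp.single (some ⟨p, hp⟩ : Var g) 1 : Var g →₀ ℕ) (some ⟨p, hp⟩ : Var g) := by simp
    exact_mod_cast Nat.mul_pos (Nat.mul_pos hm h3) h4
  rw [F_eq, φ_add, φ_smul, φ_sum]
  refine add_pos_of_pos_of_nonneg (mul_pos (by norm_num) ?_) (by
    rw [φ_sum]; exact Finset.sum_nonneg fun x _ => (pos_T1 hbig x _ ht).1)
  refine lt_of_lt_of_le key ?_
  calc φ (d0 + Finsupp.single w 1) (T2 g p q (unit d))
      ≤ ∑ y ∈ idx g, φ (d0 + Finsupp.single w 1) (T2 g p y (unit d)) :=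
        Finset.single_le_sum (f := fun y => φ (d0 + Finsupp.single w 1) (T2 g p y (unit d)))
          (fun y _ => (pos_T2 hbig p y _ ht).1) (mem_idx hq)
    _ = φ (d0 + Finsupp.single w 1) (∑ y ∈ idx g, T2 g p y (unit d)) := (φ_sum _ _ _).symm
    _ ≤ _ := Finset.single_le_sum (f := fun x => φ (d0 + Finsupp.single w 1) (∑ y ∈ idx g, T2 g x y (unit d)))
          (fun x _ => (Pos.sum _ (fun y _ => pos_T2 hbig x y) _ ht).1) (mem_idx hp)

theorem StrictAt.shift {d0 : Var g →₀ ℕ} {P : RelRing g} {p : ℕ × ℕ} (hp : Valid g p)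
    (hw : Valid g (p.1 - 2, p.2)) (h1 : 2 ≤ p.1) (h : StrictAt (d0 + Finsupp.single (some ⟨p, hp⟩ : Var g) 1) P) :
    StrictAt (d0 + Finsupp.single (some ⟨(p.1 - 2, p.2), hw⟩) 1) (F g P) := by
  set d := d0 + Finsupp.single (some ⟨p, hp⟩ : Var g) 1 with hd
  set w : Var g := some ⟨(p.1 - 2, p.2), hw⟩ with hwdef
  have ht : (d0 + Finsupp.single w 1 : Var g →₀ ℕ) none = 0 := by
    have := h.1; simp [hd, w] at this ⊢; omega
  refine h.step ht ?_
  have hbig := h.big
  have key : 0 < φ (d0 + Finsupp.single w 1) (T1 g p (unit d)) := by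
    have hxv : xv g ((p.1 : ℤ) - 2) (p.2 : ℤ) = MvPolynomial.X w := by
      rw [hwdef, ← xv_valid hw]
      congr 1
      push_cast [Nat.cast_sub h1]
      rfl
    have hsg : sg d = sg (d0 + Finsupp.single w 1) := by
      rw [hd, sg, sg, deg_add, deg_add, deg_single, deg_single]
    have hsub : d - Finsupp.single (some ⟨p, hp⟩ : Var g) 1 = d0 := by rw [hd, add_tsub_cancel_right]
    rw [T1, dv_unit hp, hxv, mul_smul_comm, mul_smul_comm, hsub, X_mul_mono, φ_smul, hsg, φ_smul, φ, coeff_monomial,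
      if_pos rfl, mul_one, sg_mul_self, mul_one]
    have : 0 < d (some ⟨p, hp⟩ : Var g) := by simp [hd]
    exact_mod_cast this
  rw [F_eq, φ_add, φ_smul, φ_sum]
  refine add_pos_of_nonneg_of_pos (mul_nonneg (by norm_num)
    (Finset.sum_nonneg fun x _ => (Pos.sum _ (fun y _ => pos_T2 hbig x y) _ ht).1)) ?_
  rw [φ_sum]
  exact lt_of_lt_of_le key (Finset.single_le_sum (f := fun x => φ (d0 + Finsupp.single w 1) (T1 g x (unit d)))
    (fun x _ => (pos_T1 hbig x _ ht).1) (mem_idx hp))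

theorem exists_rel (i : ℕ) (hi : 1 ≤ i) (hig : i + 1 ≤ g) (h3 : g < 3 * i) (hz : Valid g (0, 2 * i)) :
    ∃ G : RelRing g, G ∈ relIdeal g ∧ G ∈ H g 0 (2 * (i : ℤ)) ∧
      G.coeff (Finsupp.single (some ⟨(0, 2 * i), hz⟩) 1) ≠ 0 := by
  classical
  have hv : ∀ s, s ≤ 2 * i - 1 → Valid g (3 + s, 1 + s) := fun s hs =>
    ⟨by show 3 + s ≤ 1 + s + 2; omega, by show 1 + s + 2 ≤ 2 * g; omega,
      by show Even (3 + s + (1 + s)); exact ⟨2 + s, by ring⟩, fun e => by simpa using congrArg Prod.snd e⟩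
  have h31 : Valid g (3, 1) := hv 0 (Nat.zero_le _)
  set a : Var g := some ⟨(3, 1), h31⟩
  set M : RelRing g := monomial (Finsupp.single a (2 * i)) 1
  have hM : M = unit (Finsupp.single a (2 * i)) := by
    rw [unit, sg, deg_single, pow_mul, neg_one_sq, one_pow, one_smul]
  have hbig : Big (Finsupp.single a (2 * i)) := fun v hv => by
    rw [Finsupp.support_single_ne_zero _ (by omega), Finset.mem_singleton] at hv
    subst hv; exact one_ne_zero
  have merges : ∀ (s : ℕ) (hs : s ≤ 2 * i - 1),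
      StrictAt (Finsupp.single a (2 * i - 1 - s) + Finsupp.single (some ⟨(3 + s, 1 + s), hv s hs⟩) 1)
        ((F g)^[s] M) := by
    intro s
    induction s with
    | zero =>
      intro hs
      have e : (Finsupp.single a (2 * i - 1 - 0) + Finsupp.single (some ⟨(3 + 0, 1 + 0), hv 0 hs⟩) 1 : Var g →₀ ℕ) =
          Finsupp.single a (2 * i) := by
        rw [← Finsupp.single_add]; congr 1; omega
      rw [e]
      refine ⟨by simp [a], ?_, ?_⟩
      · rw [Function.iterate_zero, id_eq, hM]; exact Pos.unit hbig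
      · rw [Function.iterate_zero, id_eq, hM, φ, coeff_unit]; norm_num
    | succ s ih =>
      intro hs
      have hih := ih (by omega)
      rw [show 2 * i - 1 - s = (2 * i - 1 - (s + 1)) + 1 by omega, Finsupp.single_add] at hih
      rw [Function.iterate_succ_apply']
      have hw : Valid g ((3, 1).1 + (3 + s, 1 + s).1 - 2, (3, 1).2 + (3 + s, 1 + s).2) := by
        convert hv (s + 1) hs using 2 <;> omega
      have := StrictAt.merge h31 (hv s (by omega)) hw (by norm_num) (by omega) hih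
      rwa [var_eq hw (hv (s + 1) hs) (Prod.ext (by show 3 + (3 + s) - 2 = 3 + (s + 1); omega)
        (by show 1 + (1 + s) = 1 + (s + 1); omega))] at this
  have hv2 : ∀ t, t ≤ i + 1 → Valid g (2 * i + 2 - 2 * t, 2 * i) := fun t ht =>
    ⟨by show 2 * i + 2 - 2 * t ≤ 2 * i + 2; omega, by show 2 * i + 2 ≤ 2 * g; omega,
      by show Even (2 * i + 2 - 2 * t + 2 * i); exact ⟨2 * i + 1 - t, by omega⟩,
      fun e => by have := congrArg Prod.snd e; simp at this; omega⟩
  have shifts : ∀ (t : ℕ) (ht : t ≤ i + 1),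
      StrictAt (0 + Finsupp.single (some ⟨(2 * i + 2 - 2 * t, 2 * i), hv2 t ht⟩) 1)
        ((F g)^[t] ((F g)^[2 * i - 1] M)) := by
    intro t
    induction t with
    | zero =>
      intro ht
      have := merges (2 * i - 1) le_rfl
      rw [Nat.sub_self, Finsupp.single_zero] at this
      rwa [var_eq (hv (2 * i - 1) le_rfl) (hv2 0 ht) (Prod.ext (by show 3 + (2 * i - 1) = 2 * i + 2 - 2 * 0; omega)
        (by show 1 + (2 * i - 1) = 2 * i; omega))] at this
    | succ t ih =>
      intro ht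
      rw [Function.iterate_succ_apply']
      have hw : Valid g ((2 * i + 2 - 2 * t, 2 * i).1 - 2, (2 * i + 2 - 2 * t, 2 * i).2) := by
        convert hv2 (t + 1) ht using 2
        show 2 * i + 2 - 2 * t - 2 = _
        omega
      have := StrictAt.shift (hv2 t (by omega)) hw (by show 2 ≤ 2 * i + 2 - 2 * t; omega) (ih (by omega))
      rwa [var_eq hw (hv2 (t + 1) ht) (Prod.ext (by show 2 * i + 2 - 2 * t - 2 = 2 * i + 2 - 2 * (t + 1); omega) rfl)]
        at this
  have hwt : Finsupp.weight (wt g) (Finsupp.single a (2 * i)) = (6 * i, 2 * i) := by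
    rw [Finsupp.weight_single]; simp [a, wt]; ring
  refine ⟨(F g)^[i + 1] ((F g)^[2 * i - 1] M), ?_, ?_, ?_⟩
  · rw [← Function.iterate_add_apply]
    exact Ideal.subset_span ⟨_, _, by rw [hwt]; show 2 * g < 6 * i; omega, rfl⟩
  · rw [← Function.iterate_add_apply]
    refine H_congr (iterate_H (i := (6 * i : ℤ)) (j := (2 * i : ℤ)) ?_ _) ?_ rfl
    · refine isWeightedHomogeneous_monomial _ _ _ ?_
      rw [weight_wz, hwt]; simp
    · push_cast [show i + 1 + (2 * i - 1) = 3 * i by omega]; ring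
  · have h := (shifts (i + 1) le_rfl).2.2
    rw [φ] at h
    intro e
    have heq : (0 + Finsupp.single (some ⟨(2 * i + 2 - 2 * (i + 1), 2 * i), hv2 (i + 1) le_rfl⟩) 1 : Var g →₀ ℕ) =
        Finsupp.single (some ⟨(0, 2 * i), hz⟩) 1 := by
      rw [zero_add, var_eq (hv2 (i + 1) le_rfl) hz (Prod.ext (by show 2 * i + 2 - 2 * (i + 1) = 0; omega) rfl)]
    rw [heq, e, mul_zero] at h
    exact lt_irrefl _ h

theorem xv_mem (hg : 1 ≤ g) : ∀ i : ℕ, ∃ q ∈ Algebra.adjoin ℚ (lowGens g),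
    xv g 0 (2 * (i : ℤ)) - q ∈ relIdeal g := by
  classical
  intro i
  induction i using Nat.strong_induction_on with
  | _ i ih =>
  rcases Nat.eq_zero_or_pos i with rfl | hi
  · exact ⟨(g : RelRing g), natCast_mem _ g, by simp [xv]⟩
  rcases le_or_gt (3 * i) g with h3 | h3
  · exact ⟨_, Algebra.subset_adjoin (Or.inr ⟨i, hi, h3, rfl⟩), by rw [sub_self]; exact zero_mem _⟩
  by_cases hz : Valid g (0, 2 * i)
  swap
  · refine ⟨0, zero_mem _, ?_⟩
    rw [sub_zero, xv, if_neg (by omega), dif_neg]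
    · exact zero_mem _
    · rintro ⟨-, -, h⟩
      apply hz
      rwa [show (2 * (i : ℤ)).toNat = 2 * i by omega, Int.toNat_zero] at h
  have hig : i + 1 ≤ g := by have := hz.2.1; simp at this; omega
  obtain ⟨G, hG, hH, hc⟩ := exists_rel i hi hig h3 hz
  set z : Var g := some ⟨(0, 2 * i), hz⟩
  have hxz : xv g 0 (2 * (i : ℤ)) = MvPolynomial.X z := by simpa using xv_valid hz
  set S : Subalgebra ℚ (RelRing g ⧸ relIdeal g) :=
    (Algebra.adjoin ℚ (lowGens g)).map (Ideal.Quotient.mkₐ ℚ (relIdeal g)) with hS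
  have hrest : ∀ d ∈ G.support, d ≠ Finsupp.single z 1 → Ideal.Quotient.mkₐ ℚ (relIdeal g) (monomial d (G.coeff d)) ∈ S := by
    intro d hd hne
    rw [monomial_eq, map_mul, Finsupp.prod, map_prod, ← MvPolynomial.algebraMap_eq, AlgHom.commutes]
    refine mul_mem (Subalgebra.algebraMap_mem _ _) (Subalgebra.prod_mem _ fun v hv => ?_)
    rw [map_pow]
    refine pow_mem ?_ _
    have hw := weight_inj (i := 0) (j := 2 * i) (by simpa using hH (mem_support_iff.1 hd))
    rcases v with _ | ⟨⟨a, b⟩, hab⟩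
    · exact ⟨_, Algebra.subset_adjoin (Or.inl rfl), rfl⟩
    set v : Var g := some ⟨(a, b), hab⟩
    have hd0 := Finsupp.mem_support_iff.1 hv
    have hsplit : Finsupp.weight (wt g) (d - Finsupp.single v 1) + (a, b) = (0, 2 * i) := by
      conv_rhs => rw [← hw, ← sub_add_single hd0, map_add, Finsupp.weight_single, one_smul]
      rfl
    rw [Prod.ext_iff] at hsplit
    simp only [Prod.fst_add, Prod.snd_add] at hsplit
    obtain ⟨ha, hb⟩ := hsplit
    obtain ⟨c, hc'⟩ : Even (a + b) := hab.2.2.1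
    have ha0 : a = 0 := by omega
    subst ha0
    have hbi : c < i := by
      rcases eq_or_lt_of_le (show c ≤ i by omega) with h | h
      · exfalso
        have he : d - Finsupp.single v 1 = 0 := by
          by_contra hne'
          obtain ⟨u, hu⟩ := Finsupp.support_nonempty_iff.2 hne'
          have hu0 := Finsupp.mem_support_iff.1 hu
          have h1 : Finsupp.weight (wt g) (d - Finsupp.single v 1 - Finsupp.single u 1) + wt g u =
              Finsupp.weight (wt g) (d - Finsupp.single v 1) := by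
            conv_rhs => rw [← sub_add_single hu0, map_add, Finsupp.weight_single, one_smul]
          rw [Prod.ext_iff] at h1
          simp only [Prod.fst_add, Prod.snd_add] at h1
          rcases u with _ | ⟨⟨a', b'⟩, hu'⟩
          · simp only [wt] at h1; omega
          · simp only [wt] at h1
            exact hu'.2.2.2 (Prod.ext (by simp; omega) (by simp; omega))
        apply hne
        rw [← sub_add_single hd0, he, zero_add]
        rw [he, map_zero] at hb
        have : v = z := var_eq hab hz (Prod.ext rfl (by simpa using hb))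
        rw [this]
      · exact h
    obtain ⟨q, hq, hqm⟩ := ih c hbi
    refine ⟨q, hq, ?_⟩
    show Ideal.Quotient.mk _ q = Ideal.Quotient.mk _ (MvPolynomial.X v)
    rw [eq_comm, Ideal.Quotient.eq]
    convert hqm using 2
    have hbc : b = 2 * c := by omega
    have e := xv_valid hab
    show MvPolynomial.X (some ⟨(0, b), hab⟩ : Var g) = _
    rw [← e, hbc]
    push_cast
    rfl
  have hz' : Ideal.Quotient.mkₐ ℚ (relIdeal g) (monomial (Finsupp.single z 1) (G.coeff (Finsupp.single z 1))) ∈ S := by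
    have hmem : Finsupp.single z 1 ∈ G.support := mem_support_iff.2 hc
    have hG0 : Ideal.Quotient.mkₐ ℚ (relIdeal g) G = 0 := Ideal.Quotient.eq_zero_iff_mem.2 hG
    rw [G.as_sum, ← Finset.add_sum_erase _ _ hmem, map_add, map_sum, add_eq_zero_iff_eq_neg] at hG0
    rw [hG0]
    exact neg_mem (Subalgebra.sum_mem _ fun d hd => hrest d (Finset.mem_of_mem_erase hd) (Finset.ne_of_mem_erase hd))
  have hX : Ideal.Quotient.mkₐ ℚ (relIdeal g) (MvPolynomial.X z) ∈ S := by
    have := S.smul_mem hz' (G.coeff (Finsupp.single z 1))⁻¹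
    rwa [← map_smul, smul_monomial, smul_eq_mul, inv_mul_cancel₀ hc] at this
  obtain ⟨q, hq, hqe⟩ := hX
  refine ⟨q, hq, ?_⟩
  rw [hxz]
  exact Ideal.Quotient.eq.1 hqe.symm

end Groth.Agent.TautJacLib
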